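import Cfsg.Agent.Lib.Comp.Fast

set_option maxRecDepth 100000
set_option Elab.async false

namespace Cfsg.Lib.Comp.McC

universe u

def iv : ℕ → ℕ := (fun x => look (nat_lit 0xffef7cefae78df6d74cf2c70beeb6caeaa689e69648e28607de75c6da6585d65544d24503ce30d28b209187105083040) 6 x)

noncomputable def R : List (List ℕ × ℕ) := [([1],1),
 ([2],2),
 ([1,2,1,3],0),
 ([4],2),
 ([1,4,1,5],0),
 ([6],2),
 ([1,6,1,7],0),
 ([8],2),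
 ([1,8,1,9],0),
 ([10],2),
 ([1,10,1,11],0),
 ([12],2),
 ([1,12,1,13],0),
 ([2,4,2,4,1],0),
 ([2,6,2,6,1],0),
 ([2,8,2,8,1],0),
 ([2,10,2,10,1],0),
 ([2,12,2,12,1],0),
 ([4,6,4,6,1],0),
 ([4,8,4,8,1],0),
 ([4,10,4,10,1],0),
 ([4,12,4,12,1],0),
 ([6,8,6,8,1],0),
 ([6,10,6,10,1],0),
 ([6,12,6,12,1],0),
 ([8,10,8,10,1],0),
 ([8,12,8,12,1],0),
 ([10,12,10,12,1],0),
 ([2,3],0),
 ([4,5],0),
 ([6,7],0),
 ([8,9],0),
 ([10,11],0),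
 ([12,13],0)]

def L : List ℕ := [1,2,3,4,5,6,7,8,9,10,11,12,13]

end Cfsg.Lib.Comp.McC
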