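import Cfsg.Agent.Lib.Comp.McC.Base

set_option maxRecDepth 100000
set_option Elab.async false

namespace Cfsg.Lib.Comp.McC

universe u

noncomputable def T2_R : List (List ℕ × ℕ) := [([1],1),
 ([2],2),
 ([1,2,1,3],0),
 ([4],2),
 ([1,4,1,5],0),
 ([6],2),
 ([1,6,1,7],0),
 ([8],2),
 ([1,8,1,9],0),
 ([2,4,2,4,1],0),
 ([2,6,2,6,1],0),
 ([2,8,2,8,1],0),
 ([4,6,4,6,1],0),
 ([4,8,4,8,1],0),
 ([6,8,6,8,1],0),
 ([2,3],0),
 ([4,5],0),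
 ([6,7],0),
 ([8,9],0)]

noncomputable def T2_n_2 : Net :=
 (Net.cons 3 (nat_lit 0x6)
 (Net.cons 1 (nat_lit 0x10)
 (Net.cons 1 (nat_lit 0x8)
 (Net.cons 3 (nat_lit 0x6)
 Net.nil))))

noncomputable def T2_n_4 : Net :=
 (Net.cons 1 (nat_lit 0x2)
 (Net.cons 3 (nat_lit 0x2)
 Net.nil))

noncomputable def T2_n_6 : Net :=
 (Net.cons 3 (nat_lit 0x4)
 (Net.cons 1 (nat_lit 0x2)
 Net.nil))

noncomputable def T2_n_8 : Net :=
 (Net.cons 1 (nat_lit 0x2)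
 (Net.cons 1 (nat_lit 0x1)
 Net.nil))

noncomputable def T2_n : List Net := [Net.nil,
 Net.nil,
 T2_n_2,
 Net.rev T2_n_2,
 T2_n_4,
 Net.rev T2_n_4,
 T2_n_6,
 Net.rev T2_n_6,
 T2_n_8,
 Net.rev T2_n_8]

theorem T2_n_ok : NetsOK 6 T2_n := netsOK_of (by decide +kernel)

theorem T2_n_rel : Rels (gp T2_n) T2_R := rels_of_relsB (k := 3) T2_n_ok (by norm_num) (by decide +kernel)

theorem T2_fin : finB 6 T2_n [1,2,3,4,5,6,7,8,9] 6 (runH 6 T2_n (fun x p => ptInv (nth Net.nil T2_n x) p) iv T2_R [] ([1,2,3,4,5,6,7].map fun x => [x]) 0 []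
  [1,5,9,13,17,21,25,60,64,68,72,28,32,44,52,56,60,64,68,72,4,8,12,16,20,24,36,40,44,48,52,56,60,64,68,72]
  (defsH 6 T2_n (ones 84) [8,9,2,4,6] (Nat.shiftLeft 1 0) 0)) = true := by decide +kernel

theorem T2_idx : Idx.{u} iv (T2_R ++ []) ([1,2,3,4,5,6,7].map fun x => [x]) [1,2,3,4,5,6,7,8,9] 6 :=
  Reach.idx T2_n_ok (reach_runH T2_n_ok (fun x p _ => ptInv_gp T2_n_ok x p) T2_n_rel (reach_defsH T2_n_ok _ _ _ _ _ _) _ _) T2_fin (by norm_num)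

end Cfsg.Lib.Comp.McC
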