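import Cfsg.Agent.Lib.Comp.McC.Base

set_option maxRecDepth 100000
set_option Elab.async false

namespace Cfsg.Lib.Comp.McC

universe u

noncomputable def T4_R : List (List ℕ × ℕ) := [([1],1),
 ([2],2),
 ([1,2,1,3],0),
 ([4],2),
 ([1,4,1,5],0),
 ([2,4,2,4,1],0),
 ([2,3],0),
 ([4,5],0)]

noncomputable def T4_n_2 : Net :=
 (Net.cons 2 (nat_lit 0x2)
 (Net.cons 1 (nat_lit 0x4)
 Net.nil))

noncomputable def T4_n_4 : Net :=
 (Net.cons 1 (nat_lit 0x1)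
 (Net.cons 2 (nat_lit 0x1)
 Net.nil))

noncomputable def T4_n : List Net := [Net.nil,
 Net.nil,
 T4_n_2,
 Net.rev T4_n_2,
 T4_n_4,
 Net.rev T4_n_4]

theorem T4_n_ok : NetsOK 4 T4_n := netsOK_of (by decide +kernel)

theorem T4_n_rel : Rels (gp T4_n) T4_R := rels_of_relsB (k := 2) T4_n_ok (by norm_num) (by decide +kernel)

theorem T4_fin : finB 4 T4_n [1,2,3,4,5] 4 (runH 4 T4_n (fun x p => ptInv (nth Net.nil T4_n x) p) iv T4_R [] ([1,2,3].map fun x => [x]) 0 []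
  [1,5,9,24,28,12,16,20,24,28,4,8,20,24,28]
  (defsH 4 T4_n (ones 56) [4,5,2] (Nat.shiftLeft 1 0) 0)) = true := by decide +kernel

theorem T4_idx : Idx.{u} iv (T4_R ++ []) ([1,2,3].map fun x => [x]) [1,2,3,4,5] 4 :=
  Reach.idx T4_n_ok (reach_runH T4_n_ok (fun x p _ => ptInv_gp T4_n_ok x p) T4_n_rel (reach_defsH T4_n_ok _ _ _ _ _ _) _ _) T4_fin (by norm_num)

end Cfsg.Lib.Comp.McC
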