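import Cfsg.Agent.Lib.Comp.McC.T0
import Cfsg.Agent.Lib.Comp.McC.T1
import Cfsg.Agent.Lib.Comp.McC.T2
import Cfsg.Agent.Lib.Comp.McC.T3
import Cfsg.Agent.Lib.Comp.McC.T4
import Cfsg.Agent.Lib.Comp.McC.T5
import Cfsg.Agent.Lib.Comp.McC.T6

set_option maxRecDepth 100000
set_option Elab.async false

namespace Cfsg.Lib.Comp.McC

universe u

theorem T6_ord : Ord.{u} iv T6_R [1] 2 :=
  (T6_idx.ord_base).of_cons (cons_of_subset (by decide +kernel))

theorem T5_ord : Ord.{u} iv T5_R [1,2,3] 6 :=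
  (T5_idx.ord_step T6_ord).of_cons (cons_of_subset (by decide +kernel))

theorem T4_ord : Ord.{u} iv T4_R [1,2,3,4,5] 24 :=
  (T4_idx.ord_step T5_ord).of_cons (cons_of_subset (by decide +kernel))

theorem T3_ord : Ord.{u} iv T3_R [1,2,3,4,5,6,7] 120 :=
  (T3_idx.ord_step T4_ord).of_cons (cons_of_subset (by decide +kernel))

theorem T2_ord : Ord.{u} iv T2_R [1,2,3,4,5,6,7,8,9] 720 :=
  (T2_idx.ord_step T3_ord).of_cons (cons_of_subset (by decide +kernel))

theorem T1_ord : Ord.{u} iv T1_R [1,2,3,4,5,6,7,8,9,10,11] 5040 :=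
  (T1_idx.ord_step T2_ord).of_cons (cons_of_subset (by decide +kernel))

theorem T0_ord : Ord.{u} iv T0_R [1,2,3,4,5,6,7,8,9,10,11,12,13] 40320 :=
  (T0_idx.ord_step T1_ord).of_cons (cons_of_subset (by decide +kernel))

theorem ord : Ord.{u} iv R L 40320 := T0_ord.of_cons (cons_of_subset (by decide +kernel))

end Cfsg.Lib.Comp.McC
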