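import Cfsg.Agent.Lib.Comp.McC.Base

set_option maxRecDepth 100000
set_option Elab.async false

namespace Cfsg.Lib.Comp.McC

universe u

noncomputable def T0_R : List (List ℕ × ℕ) := [([1],1),
 ([2],2),
 ([1,2,1,3],0),
 ([4],2),
 ([1,4,1,5],0),
 ([6],2),
 ([1,6,1,7],0),
 ([8],2),
 ([1,8,1,9],0),
 ([10],2),
 ([1,10,1,11],0),
 ([12],2),
 ([1,12,1,13],0),
 ([2,4,2,4,1],0),
 ([2,6,2,6,1],0),
 ([2,8,2,8,1],0),
 ([2,10,2,10,1],0),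
 ([2,12,2,12,1],0),
 ([4,6,4,6,1],0),
 ([4,8,4,8,1],0),
 ([4,10,4,10,1],0),
 ([4,12,4,12,1],0),
 ([6,8,6,8,1],0),
 ([6,10,6,10,1],0),
 ([6,12,6,12,1],0),
 ([8,10,8,10,1],0),
 ([8,12,8,12,1],0),
 ([10,12,10,12,1],0),
 ([2,3],0),
 ([4,5],0),
 ([6,7],0),
 ([8,9],0),
 ([10,11],0),
 ([12,13],0)]

noncomputable def T0_n_2 : Net :=
 (Net.cons 2 (nat_lit 0x2)
 (Net.cons 1 (nat_lit 0x4)
 Net.nil))

noncomputable def T0_n_4 : Net :=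
 (Net.cons 4 (nat_lit 0x6)
 (Net.cons 1 (nat_lit 0x10)
 (Net.cons 2 (nat_lit 0x10)
 (Net.cons 4 (nat_lit 0x6)
 Net.nil))))

noncomputable def T0_n_6 : Net :=
 (Net.cons 2 (nat_lit 0x2)
 (Net.cons 1 (nat_lit 0x4)
 (Net.cons 2 (nat_lit 0x2)
 (Net.cons 4 (nat_lit 0x2)
 Net.nil))))

noncomputable def T0_n_8 : Net :=
 (Net.cons 4 (nat_lit 0x4)
 (Net.cons 2 (nat_lit 0x2)
 (Net.cons 1 (nat_lit 0x4)
 (Net.cons 2 (nat_lit 0x2)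
 Net.nil))))

noncomputable def T0_n_10 : Net :=
 (Net.cons 4 (nat_lit 0x8)
 (Net.cons 2 (nat_lit 0x2)
 (Net.cons 1 (nat_lit 0x4)
 (Net.cons 4 (nat_lit 0x8)
 Net.nil))))

noncomputable def T0_n_12 : Net :=
 (Net.cons 1 (nat_lit 0x1)
 (Net.cons 2 (nat_lit 0x1)
 Net.nil))

noncomputable def T0_n : List Net := [Net.nil,
 Net.nil,
 T0_n_2,
 Net.rev T0_n_2,
 T0_n_4,
 Net.rev T0_n_4,
 T0_n_6,
 Net.rev T0_n_6,
 T0_n_8,
 Net.rev T0_n_8,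
 T0_n_10,
 Net.rev T0_n_10,
 T0_n_12,
 Net.rev T0_n_12]

theorem T0_n_ok : NetsOK 8 T0_n := netsOK_of (by decide +kernel)

theorem T0_n_rel : Rels (gp T0_n) T0_R := rels_of_relsB (k := 3) T0_n_ok (by norm_num) (by decide +kernel)

theorem T0_fin : finB 8 T0_n [1,2,3,4,5,6,7,8,9,10,11,12,13] 8 (runH 8 T0_n (fun x p => ptInv (nth Net.nil T0_n x) p) iv T0_R [] ([1,2,3,4,5,6,7,8,9,10,11].map fun x => [x]) 0 []
  (apd [1,5,9,13,17,21,25,29,33,37,41,112,116,120,124,128,132,44,48,68,84,96,104,108,112,116,120,124,128,132,4,8,12,16,20,24,28,32,36,40,52,56,60,64,68,72,76,80,84,88,92,96,100,104,108,112,116,120,124,128]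
 [132])
  (defsH 8 T0_n (ones 112) [12,13,2,4,6,8,10] (Nat.shiftLeft 1 0) 0)) = true := by decide +kernel

theorem T0_idx : Idx.{u} iv (T0_R ++ []) ([1,2,3,4,5,6,7,8,9,10,11].map fun x => [x]) [1,2,3,4,5,6,7,8,9,10,11,12,13] 8 :=
  Reach.idx T0_n_ok (reach_runH T0_n_ok (fun x p _ => ptInv_gp T0_n_ok x p) T0_n_rel (reach_defsH T0_n_ok _ _ _ _ _ _) _ _) T0_fin (by norm_num)

end Cfsg.Lib.Comp.McC
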